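import Cfsg.Agent.H750.RM.Two
import Cfsg.Agent.H571.RM.RowS

/-!
# S3849, piece X1 (helper750): the rows `RowM π S`, `2 ∈ π`, `3, p ∉ π`, for `F₄, E₆, E₇, E₈, ²E₆`

The shape of the Hall subgroup (`FTwo π S`, box R3) is an argument.
-/

set_option autoImplicit false

namespace Cfsg.Agent.H750.RM

open Subgroup Cfsg Cfsg.Agent.H988.CPi Cfsg.Agent.H571.DExt Cfsg.Agent.H571.RV Cfsg.Agent.H571.RM
open Cfsg.Agent.H959.RV (FTwo Two)

universe u

variable {π : Set ℕ} {S : Type u} [Group S] [Finite S] {p : ℕ}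

theorem exists_ne_of_not_comm {S : Type*} [Group S] (hna : ¬ IsMulCommutative S) : ∃ a b : S, a * b ≠ b * a := by
  by_contra h
  push Not at h
  exact hna ⟨⟨fun a b => h a b⟩⟩

/-- **The row from the toral 2-group.** -/
theorem rowM_of_cenTwo [IsSimpleGroup S] (hna : ¬ IsMulCommutative S) (h2π : 2 ∈ π) (h3π : 3 ∉ π) (hpπ : p ∉ π)
    (hC : CenTwo p S) (hF : Dom π S → PiGrp π S ∨ FTwo π S) : RowM π S := by
  intro hsm hD
  rcases hF hD with h | ⟨H, A, h1, h2, h3, h4, h5, h6⟩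
  · exact her_of_piGrp h hD
  · have d : HA π 2 H A := ⟨Nat.prime_two, h1, h2, h3, h4, h5, h6⟩
    obtain ⟨B, hB, hB1, hcen⟩ := hC
    have hB1' : ∃ b ∈ B, MonoidHom.id S b ≠ 1 := by
      by_contra hcon
      push Not at hcon
      exact hB1 ((eq_bot_iff_forall B).2 hcon)
    refine rowM_of_cen (exists_ne_of_not_comm hna) d h2π (MonoidHom.id S) Function.surjective_id
      (by rw [MonoidHom.ker_id]; exact bot_le) (by rw [MonoidHom.ker_id, Subgroup.card_bot]; exact Nat.coprime_one_right _)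
      hB hB1' ?_ hsm hD
    intro A' hab hpi h2A hn
    refine hcen A' hab (fun t ht htd => ⟨?_, ?_, ?_⟩) hn
    · rintro rfl; exact h2A htd
    · rintro rfl; exact h3π (hpi 3 ht htd)
    · rintro rfl; exact hpπ (hpi _ ht htd)

variable {F : Type} [Field F] [Fintype F] [IsSimpleGroup S]

theorem ne_two (h2π : 2 ∈ π) (hpπ : p ∉ π) : p ≠ 2 := by rintro rfl; exact hpπ h2π

theorem rowM_f4 (hna : ¬ IsMulCommutative S) (h2π : 2 ∈ π) (h3π : 3 ∉ π) (hpp : p.Prime) (hpπ : p ∉ π) [CharP F p]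
    (hS : Nonempty (S ≃* Lie.chevF4.group F)) (hF : Dom π S → PiGrp π S ∨ FTwo π S) : RowM π S :=
  rowM_of_cenTwo hna h2π h3π hpπ (cen_f4 hpp (ne_two h2π hpπ) hS) hF

theorem rowM_e6 (hna : ¬ IsMulCommutative S) (h2π : 2 ∈ π) (h3π : 3 ∉ π) (hpp : p.Prime) (hpπ : p ∉ π) [CharP F p]
    (hS : Nonempty (S ≃* Lie.chevE6.group F)) (hF : Dom π S → PiGrp π S ∨ FTwo π S) : RowM π S :=
  rowM_of_cenTwo hna h2π h3π hpπ (cen_e6 hpp (ne_two h2π hpπ) hS) hF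

theorem rowM_e7 (hna : ¬ IsMulCommutative S) (h2π : 2 ∈ π) (h3π : 3 ∉ π) (hpp : p.Prime) (hpπ : p ∉ π) [CharP F p]
    (hS : Nonempty (S ≃* Lie.chevE7.group F)) (hF : Dom π S → PiGrp π S ∨ FTwo π S) : RowM π S :=
  rowM_of_cenTwo hna h2π h3π hpπ (cen_e7 hpp (ne_two h2π hpπ) hS) hF

theorem rowM_e8 (hna : ¬ IsMulCommutative S) (h2π : 2 ∈ π) (h3π : 3 ∉ π) (hpp : p.Prime) (hpπ : p ∉ π) [CharP F p]
    (hS : Nonempty (S ≃* Lie.chevE8.group F)) (hF : Dom π S → PiGrp π S ∨ FTwo π S) : RowM π S :=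
  rowM_of_cenTwo hna h2π h3π hpπ (cen_e8 hpp (ne_two h2π hpπ) hS) hF

theorem rowM_tw (hna : ¬ IsMulCommutative S) (h2π : 2 ∈ π) (h3π : 3 ∉ π) (hpp : p.Prime) (hpπ : p ∉ π) [CharP F p]
    {q : ℕ} (hq : IsPrimePow q) (hK : Fintype.card F = q ^ 2)
    (hS : Nonempty (S ≃* Lie.twistedE6 F q)) (hF : Dom π S → PiGrp π S ∨ FTwo π S) : RowM π S :=
  rowM_of_cenTwo hna h2π h3π hpπ (cen_tw hpp (ne_two h2π hpπ) hq hK hS) hF

end Cfsg.Agent.H750.RM
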