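import Cfsg.Agent.H169.RM.RowsD
import Cfsg.Agent.H408.RM.ExcF
import Cfsg.Agent.H167.RM.Row
import Cfsg.Agent.H167.RV.TorG
import Cfsg.Agent.H571.RM.RowC
import Cfsg.Agent.H750.RM.TwoRows

/-!
# S3849, P10: the rows `F₄, E₆, E₇, E₈, ²E₆`, `2, p ∉ π` (helper750)

* `rowM_of_fhall_cases` : the nilpotent Hall subgroups; for the others the prime `r` lies in `π`, `r ≠ 2, p`;
* `rowM_f4_odd`, `rowM_e6_odd`, `rowM_e7_odd`, `rowM_e8_odd`, `rowM_tw_odd`.
-/

set_option autoImplicit false

namespace Cfsg.Agent.H750.RM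

open Subgroup Cfsg Cfsg.Lie Cfsg.Lie.ChevalleyDatum Cfsg.Agent.H988.CPi Cfsg.Agent.H571.DExt Cfsg.Agent.H571.RV
  Cfsg.Agent.H571.RM
open Cfsg.Agent.H167.RM Cfsg.Agent.H169.RM

universe u

variable {π : Set ℕ} {S : Type u} [Group S] [Finite S] {p : ℕ}

/-- **The Hall subgroup is abelian, or `r ∈ π`.** -/
theorem rowM_of_fhall_cases (hF : Dom π S → FHall π S)
    (h : ∀ (r : ℕ) (H A : Subgroup S), HA π r H A → r ∈ π → r.Prime → RowM π S) : RowM π S := by
  intro hL hD
  obtain ⟨r, H, A, d⟩ := FHall.exists_HA (hF hD)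
  by_cases hr : r ∈ π
  · exact h r H A d hr d.hr hL hD
  · refine her_of_nilpotent d.hall ?_ hD
    have hHA : H ≤ A := by
      have h1 : A.relIndex H = 1 := by
        by_contra hne
        obtain ⟨t, ht, htd⟩ := Nat.exists_prime_and_dvd hne
        have h2 := d.idx t ht htd
        exact hr (h2 ▸ d.hall.1 t ht (htd.trans (Subgroup.relIndex_dvd_card A H)))
      exact Subgroup.relIndex_eq_one.1 h1
    have hc : ∀ a b : H, a * b = b * a := fun a b => Subtype.ext (d.ab a (hHA a.2) b (hHA b.2))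
    let _ : CommGroup H := { (inferInstance : Group H) with mul_comm := hc }
    exact CommGroup.isNilpotent

theorem cast_ne_zero' {F : Type*} [Field F] [CharP F p] (hp : p.Prime) {t : ℕ} (ht : t.Prime) (h : t ≠ p) :
    (t : F) ≠ 0 := by
  intro h0
  exact h ((Nat.prime_dvd_prime_iff_eq hp ht).1 ((CharP.cast_eq_zero_iff F p t).1 h0)).symm

variable [IsSimpleGroup S] (hna : ¬ IsMulCommutative S) (h2 : 2 ∉ π) (hp : p.Prime) (hpπ : p ∉ π)
include hna h2 hp hpπ

theorem rowM_f4_odd {F : Type} [Field F] [Fintype F] [CharP F p] (h : Nonempty (S ≃* chevF4.group F)) :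
    RowM π S := by
  obtain ⟨e⟩ := h
  have hna' := exists_ne_of_not_comm hna
  have : Fact p.Prime := ⟨hp⟩
  refine rowM_of_fhall_cases (fun hD => H167.RV.fhall_f4 h2 hpπ hD.cpi.1 e) fun r H A d hr hrp => ?_
  have hrF : (r : F) ≠ 0 := cast_ne_zero' hp hrp (by rintro rfl; exact hpπ hr)
  rcases lt_or_ge r 5 with hlt | hge
  · have h1 := hrp.two_le
    interval_cases r
    · exact absurd hr h2
    · exact rowM_of_toralB hna' h2 hpπ d hr ((toral_f4_three (p := p) (by exact_mod_cast hrF)).of_equiv e)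
    · exact absurd hrp (by norm_num)
  · exact H408.RM.rowM_f4_of_not_dvd hna' d hr h2 hpπ hge e

theorem rowM_e6_odd {F : Type} [Field F] [Fintype F] [CharP F p] (h : Nonempty (S ≃* chevE6.group F)) :
    RowM π S := by
  obtain ⟨e⟩ := h
  have hna' := exists_ne_of_not_comm hna
  have : Fact p.Prime := ⟨hp⟩
  refine rowM_of_fhall_cases (fun hD => H167.RV.fhall_e6 h2 hpπ hD.cpi.1 e) fun r H A d hr hrp => ?_
  have hrF : (r : F) ≠ 0 := cast_ne_zero' hp hrp (by rintro rfl; exact hpπ hr)
  rcases lt_or_ge r 7 with hlt | hge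
  · have h1 := hrp.two_le
    interval_cases r
    · exact absurd hr h2
    · exact rowM_of_toralB hna' h2 hpπ d hr ((toral_e6_three (p := p) (by exact_mod_cast hrF)).of_equiv e)
    · exact absurd hrp (by norm_num)
    · exact rowM_of_cenB hna' hp hpπ d hr (CenB.of_equiv e (cenB_e6_five (p := p) (by exact_mod_cast hrF)))
    · exact absurd hrp (by norm_num)
  · exact H408.RM.rowM_e6_of_not_dvd hna' d hr h2 hpπ hge e

theorem rowM_e7_odd {F : Type} [Field F] [Fintype F] [CharP F p] (h : Nonempty (S ≃* chevE7.group F)) :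
    RowM π S := by
  obtain ⟨e⟩ := h
  have hna' := exists_ne_of_not_comm hna
  have : Fact p.Prime := ⟨hp⟩
  refine rowM_of_fhall_cases (fun hD => H167.RV.fhall_e7 h2 hpπ hD.cpi.1 e) fun r H A d hr hrp => ?_
  have hrF : (r : F) ≠ 0 := cast_ne_zero' hp hrp (by rintro rfl; exact hpπ hr)
  rcases lt_or_ge r 11 with hlt | hge
  · have h1 := hrp.two_le
    interval_cases r
    · exact absurd hr h2
    · exact rowM_of_toralB hna' h2 hpπ d hr ((toral_e7_three (p := p) (by exact_mod_cast hrF)).of_equiv e)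
    · exact absurd hrp (by norm_num)
    · exact rowM_of_cenB hna' hp hpπ d hr (CenB.of_equiv e (cenB_e7_five (p := p) (by exact_mod_cast hrF)))
    · exact absurd hrp (by norm_num)
    · exact rowM_of_cenB hna' hp hpπ d hr (CenB.of_equiv e (cenB_e7_seven (p := p) (by exact_mod_cast hrF)))
    · exact absurd hrp (by norm_num)
    · exact absurd hrp (by norm_num)
    · exact absurd hrp (by norm_num)
  · exact H408.RM.rowM_e7_of_not_dvd hna' d hr h2 hpπ hge e

omit [Finite S] [IsSimpleGroup S] hna h2 hp hpπ in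
/-- the torus for `r = 5` in `E₈(q)` -/
theorem toral_e8_five' {F : Type} [Field F] [Fintype F] [Fact p.Prime] [CharP F p] (h5F : (5 : F) ≠ 0) :
    ToralB 5 p ↥(chevE8.group F) := by
  have h5 : ¬ 5 ∣ Fintype.card F := by
    intro hd
    have h1 := not_dvd_card (F := F) Nat.prime_five (by exact_mod_cast h5F)
    exact h1 (by exact_mod_cast hd)
  have hmod : Fintype.card F % 5 = 1 ∨ Fintype.card F % 5 = 4 ∨ Fintype.card F % 5 = 2 ∨ Fintype.card F % 5 = 3 := by
    omega
  rcases hmod with h | h | h | h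
  · exact toral_e8_five h5F (Or.inl (by omega))
  · exact toral_e8_five h5F (Or.inr (by omega))
  · refine toral_e8_four h5F (Nat.dvd_of_mod_eq_zero ?_)
    rw [Nat.add_mod, Nat.pow_mod, h]
  · refine toral_e8_four h5F (Nat.dvd_of_mod_eq_zero ?_)
    rw [Nat.add_mod, Nat.pow_mod, h]

theorem rowM_e8_odd {F : Type} [Field F] [Fintype F] [CharP F p] (h : Nonempty (S ≃* chevE8.group F)) :
    RowM π S := by
  obtain ⟨e⟩ := h
  have hna' := exists_ne_of_not_comm hna
  have : Fact p.Prime := ⟨hp⟩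
  refine rowM_of_fhall_cases (fun hD => H167.RV.fhall_e8 h2 hpπ hD.cpi.1 e) fun r H A d hr hrp => ?_
  have hrF : (r : F) ≠ 0 := cast_ne_zero' hp hrp (by rintro rfl; exact hpπ hr)
  rcases lt_or_ge r 11 with hlt | hge
  · have h1 := hrp.two_le
    interval_cases r
    · exact absurd hr h2
    · exact rowM_of_toralB hna' h2 hpπ d hr ((toral_e8_three (p := p) (by exact_mod_cast hrF)).of_equiv e)
    · exact absurd hrp (by norm_num)
    · exact rowM_of_toralB hna' h2 hpπ d hr ((toral_e8_five' (p := p) (by exact_mod_cast hrF)).of_equiv e)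
    · exact absurd hrp (by norm_num)
    · exact rowM_of_cenB hna' hp hpπ d hr (CenB.of_equiv e (cenB_e8_seven (p := p) (by exact_mod_cast hrF)))
    · exact absurd hrp (by norm_num)
    · exact absurd hrp (by norm_num)
    · exact absurd hrp (by norm_num)
  · exact H408.RM.rowM_e8_of_not_dvd hna' d hr h2 hpπ hge e

theorem rowM_tw_odd {F : Type} [Field F] [Fintype F] [CharP F p] {q : ℕ} (hq : IsPrimePow q)
    (hF : Fintype.card F = q ^ 2) (h : Nonempty (S ≃* twistedE6 F q)) : RowM π S := by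
  obtain ⟨e⟩ := h
  have hna' := exists_ne_of_not_comm hna
  have : Fact p.Prime := ⟨hp⟩
  refine rowM_of_fhall_cases (fun hD => H167.RV.fhall_2E6 hq h2 hpπ hD.cpi.1 hF e) fun r H A d hr hrp => ?_
  have hrF : (r : F) ≠ 0 := cast_ne_zero' hp hrp (by rintro rfl; exact hpπ hr)
  rcases lt_or_ge r 7 with hlt | hge
  · have h1 := hrp.two_le
    interval_cases r
    · exact absurd hr h2
    · exact rowM_of_toralB hna' h2 hpπ d hr ((toral_2E6_three (p := p) hq (by exact_mod_cast hrF) hF).of_equiv e)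
    · exact absurd hrp (by norm_num)
    · exact rowM_of_cenB hna' hp hpπ d hr (CenB.of_equiv e (cenB_2E6_five (p := p) hq (by exact_mod_cast hrF) hF))
    · exact absurd hrp (by norm_num)
  · exact H408.RM.rowM_2E6_of_not_dvd hna' d hr h2 hpπ hq hF hge e

end Cfsg.Agent.H750.RM
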