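import Cfsg.Agent.H554.BS.Row6

/-!
# S3849, piece X1 (helper750): the toral 2-group of the exceptional groups

`CenTwo p S` : some 2-subgroup `B ≠ 1` of `S` centralises every abelian subgroup of order prime to `6 p` which it
normalises.  `cen_f4`, `cen_e6`, `cen_e7`, `cen_e8`, `cen_tw` : all groups of types `F₄, E₆, E₇, E₈, ²E₆`, `p` odd.
-/

set_option autoImplicit false
set_option linter.unusedSectionVars false

namespace Cfsg.Agent.H750.RM

open CoxeterSystem Cfsg Cfsg.Lie Cfsg.Lie.ChevalleyDatum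
open Cfsg.Agent.ChevalleyStructure Cfsg.Agent.ChevalleyStructure.Elts Cfsg.Agent.ChevalleyStructure.CoxeterGeom
  Cfsg.Agent.ChevalleyStructure.CoxeterGeomTypes Cfsg.Agent.ChevalleyStructure.NPerm
open Cfsg.Agent.Tits.Roots Cfsg.Agent.Tits.Core Cfsg.Agent.Nodes Cfsg.Agent.Nodes.Reps Cfsg.Agent.Nodes.BNOf
  Cfsg.Agent.Nodes.RGDChev Cfsg.Agent.Nodes.Bruhat Cfsg.Agent.Nodes.NormalForm
open Cfsg.Agent.KFacts.RgdField Cfsg.Agent.KFacts.RgdChevCoord
open Cfsg.Agent.BpExc Cfsg.Agent.BpExc.TorCent Cfsg.Agent.BpExc.TorChev Cfsg.Agent.BpExc.Tow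
  Cfsg.Agent.BpExc.TowChev Cfsg.Agent.BpExc.Fr Cfsg.Agent.BpExc.Pair Cfsg.Agent.BpExc.LangFr Cfsg.Agent.GpExc.Field
  Cfsg.Agent.BpExc.TorAll
open Cfsg.Agent.H469.Exc Cfsg.Agent.H469.Exc.SigFr
open Cfsg.Agent.Nodes.RGDFoldSL
open Cfsg.Agent.ChevalleyStructure.SL2Hom (up lo mem_closure_SL2)
open Cfsg.Agent.H167.EX Cfsg.Agent.H795.LangT Cfsg.Agent.H129.TorusChar Cfsg.Agent.H129.TorusUntw
open Cfsg.Agent.H553.ExtRed Cfsg.Agent.H988.CPi Cfsg.Agent.H795.Core Cfsg.Agent.H720.TwFr Cfsg.Agent.H554.BS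
open Cfsg.Agent.H566.OmFE
open scoped commutatorElement Pointwise

universe u v w

/-- a 2-subgroup `B ≠ 1` of `S` centralises every abelian subgroup of order prime to `6 p` which it normalises -/
def CenTwo (p : ℕ) (S : Type v) [Group S] : Prop :=
  ∃ B : Subgroup S, IsPGroup 2 B ∧ B ≠ ⊥ ∧ ∀ A : Subgroup S, (∀ a ∈ A, ∀ b ∈ A, a * b = b * a) →
    (∀ t : ℕ, t.Prime → t ∣ Nat.card A → t ≠ 2 ∧ t ≠ 3 ∧ t ≠ p) → B ≤ Subgroup.normalizer (A : Set S) →
    ∀ b ∈ B, ∀ a ∈ A, b * a = a * b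

variable {D : ChevalleyDatum} {l : ℕ} {M : CoxeterMatrix (Fin l)} (hp : IsType D l M)

/-- **The core.** -/
theorem cen_core {k : Type u} [Field k] [IsAlgClosed k] (h2 : (2 : k) ≠ 0) (p : ℕ) [Fact p.Prime] [CharP k p]
    (hk : LocFin k) (hA : HAlg p k) (hc : cnt D l = true) {L1 : List ℕ} {g : ℕ → ℕ} (K : Chk D L1 g)
    (hL1 : ∀ d ∈ L1, d < D.nroots) (hL0 : L1 ≠ []) (htwo : ∀ d ∈ L1, two D d = true) {i : k} (hi : i * i = -1)
    {S : Type v} [Group S] [Finite S] (f : S →* ↥(D.group k)) (hf : Function.Injective f) (z : ↥(D.group k))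
    (hX : ∀ d ∈ L1, ∃ a, f a = z * xd hp i d * z⁻¹) : CenTwo p S := by
  have hi0 := i_ne_zero hi
  have hTab := TTab (k := k) hp
  let B : Subgroup S :=
    { carrier := {a | z⁻¹ * f a * z ∈ TT D k ∧ a ^ 4 = 1}
      one_mem' := ⟨by rw [map_one, mul_one, inv_mul_cancel]; exact one_mem _, one_pow _⟩
      mul_mem' := by
        rintro a b ⟨ha, ha4⟩ ⟨hb, hb4⟩
        have hab : Commute a b := by
          have h1 := hTab _ ha _ hb
          apply hf
          rw [map_mul, map_mul]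
          calc f a * f b = z * ((z⁻¹ * f a * z) * (z⁻¹ * f b * z)) * z⁻¹ := by group
            _ = z * ((z⁻¹ * f b * z) * (z⁻¹ * f a * z)) * z⁻¹ := by rw [h1]
            _ = f b * f a := by group
        refine ⟨?_, by rw [hab.mul_pow, ha4, hb4, one_mul]⟩
        have e : z⁻¹ * f (a * b) * z = (z⁻¹ * f a * z) * (z⁻¹ * f b * z) := by rw [map_mul]; group
        rw [e]
        exact mul_mem ha hb
      inv_mem' := by
        rintro a ⟨ha, ha4⟩
        refine ⟨?_, by rw [inv_pow, ha4, inv_one]⟩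
        have e : z⁻¹ * f a⁻¹ * z = (z⁻¹ * f a * z)⁻¹ := by rw [map_inv]; group
        rw [e]
        exact inv_mem ha }
  have hBmem : ∀ a, a ∈ B ↔ z⁻¹ * f a * z ∈ TT D k ∧ a ^ 4 = 1 := fun a => Iff.rfl
  -- the elements of `X`
  have hXB : ∀ d ∈ L1, ∃ a ∈ B, f a = z * xd hp i d * z⁻¹ := by
    intro d hd
    obtain ⟨a, ha⟩ := hX d hd
    refine ⟨a, (hBmem a).2 ⟨?_, ?_⟩, ha⟩
    · rw [ha]
      have e : z⁻¹ * (z * xd hp i d * z⁻¹) * z = xd hp i d := by group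
      rw [e]
      exact xd_mem hp hi0 d
    · apply hf
      rw [map_pow, ha, conj_pow, xd_four hp hi, mul_one, mul_inv_cancel, map_one]
  refine ⟨B, ?_, ?_, ?_⟩
  · intro a
    refine ⟨2, Subtype.ext ?_⟩
    have := ((hBmem a).1 a.2).2
    rw [Subgroup.coe_pow]
    exact this
  · obtain ⟨d, hd⟩ := List.exists_mem_of_ne_nil L1 hL0
    obtain ⟨a, ha, hfa⟩ := hXB d hd
    intro hB
    rw [hB, Subgroup.mem_bot] at ha
    rw [ha, map_one] at hfa
    have h1 : xd hp i d = 1 := by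
      have e : xd hp i d = z⁻¹ * (z * xd hp i d * z⁻¹) * z := by group
      rw [e, ← hfa]; group
    have h3 := ch_xd hp p hk hi0 (hL1 d hd) (hL1 d hd)
    rw [h1, ch_one hp p hk (hL1 d hd)] at h3
    have h4 : HMatDiagAll.expo D d d = 2 := by unfold HMatDiagAll.expo; rw [if_pos rfl]
    rw [h4] at h3
    have h5 : i ^ (2 : ℤ) = i * i := by rw [show (2 : ℤ) = ((2 : ℕ) : ℤ) by norm_num, zpow_natCast, pow_two]
    rw [h5, hi] at h3
    apply h2
    linear_combination h3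
  · intro A hab hA6 hn b hb a ha
    set m := Nat.card A with hm
    have hm0 : m ≠ 0 := Nat.card_pos.ne'
    have h6 : m.Coprime 6 := by
      rw [Nat.coprime_iff_gcd_eq_one]
      by_contra hne
      obtain ⟨t, ht, htd⟩ := Nat.exists_prime_and_dvd hne
      have h1 := hA6 t ht (htd.trans (Nat.gcd_dvd_left _ _))
      have h2 : t ∣ 2 * 3 := htd.trans (Nat.gcd_dvd_right _ _)
      rcases (ht.dvd_mul).1 h2 with h2 | h2
      · exact h1.1 ((Nat.prime_dvd_prime_iff_eq ht Nat.prime_two).1 h2)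
      · exact h1.2.1 ((Nat.prime_dvd_prime_iff_eq ht Nat.prime_three).1 h2)
    have hmp : m.Coprime p := by
      rw [Nat.coprime_comm, Nat.Prime.coprime_iff_not_dvd Fact.out]
      intro h
      exact (hA6 p Fact.out h).2.2 rfl
    have hodd : Odd m := Nat.coprime_two_right.1 (Nat.Coprime.coprime_dvd_right (by norm_num) h6)
    -- the conjugate of `f A`
    let N : Subgroup ↥(D.group k) := (A.map f).map (MulAut.conj z⁻¹).toMonoidHom
    have hNmem : ∀ {x}, x ∈ N ↔ ∃ a ∈ A, z⁻¹ * f a * z = x := by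
      intro x
      constructor
      · rintro ⟨_, ⟨a, ha, rfl⟩, rfl⟩
        refine ⟨a, ha, ?_⟩
        show z⁻¹ * f a * z = z⁻¹ * f a * z⁻¹⁻¹
        rw [inv_inv]
      · rintro ⟨a, ha, rfl⟩
        refine ⟨_, ⟨a, ha, rfl⟩, ?_⟩
        show z⁻¹ * f a * z⁻¹⁻¹ = z⁻¹ * f a * z
        rw [inv_inv]
    have hNab : ∀ x ∈ N, ∀ y ∈ N, x * y = y * x := by
      intro x hx y hy
      obtain ⟨a, ha, rfl⟩ := hNmem.1 hx
      obtain ⟨b, hb, rfl⟩ := hNmem.1 hy
      calc z⁻¹ * f a * z * (z⁻¹ * f b * z) = z⁻¹ * f (a * b) * z := by rw [map_mul]; group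
        _ = z⁻¹ * f (b * a) * z := by rw [hab a ha b hb]
        _ = _ := by rw [map_mul]; group
    have hNm : ∀ x ∈ N, x ^ m = 1 := by
      intro x hx
      obtain ⟨a, ha, rfl⟩ := hNmem.1 hx
      have h1 : (⟨a, ha⟩ : A) ^ m = 1 := pow_card_eq_one'
      have h3 : a ^ m = 1 := congrArg Subtype.val h1
      have e : (z⁻¹ * f a * z) ^ m = z⁻¹ * (f a) ^ m * z := by
        have := conj_pow (i := m) (a := z⁻¹) (b := f a)
        rwa [inv_inv] at this
      rw [e, ← map_pow, h3, map_one, mul_one, inv_mul_cancel]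
    have hsq : ∀ d ∈ L1, ∀ n ∈ N, xd hp i d ^ 2 * n = n * xd hp i d ^ 2 := by
      intro d hd n hnN
      refine sq_comm hp p hk hA hc (xd_four hp hi d) (ker_xd hp h2 hi (hL1 d hd) (htwo d hd)) hNab ?_ hNm h6 hmp hnN
      intro x hx
      obtain ⟨a, ha, rfl⟩ := hNmem.1 hx
      obtain ⟨c, hcB, hfc⟩ := hXB d hd
      have h1 := (Subgroup.mem_normalizer_iff.1 (hn hcB) a).1 ha
      refine hNmem.2 ⟨_, h1, ?_⟩
      rw [map_mul, map_mul, map_inv, hfc]
      group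
    have hT : ∀ a ∈ A, z⁻¹ * f a * z ∈ TT D k := by
      intro a ha
      refine mem_TT_of_sq hp h2 p hk K hL1 hi hodd (hNm _ (hNmem.2 ⟨a, ha, rfl⟩)) fun d hd => ?_
      exact hsq d hd _ (hNmem.2 ⟨a, ha, rfl⟩)
    have h1 := hTab _ ((hBmem b).1 hb).1 _ (hT a ha)
    apply hf
    rw [map_mul, map_mul]
    calc f b * f a = z * ((z⁻¹ * f b * z) * (z⁻¹ * f a * z)) * z⁻¹ := by group
      _ = z * ((z⁻¹ * f a * z) * (z⁻¹ * f b * z)) * z⁻¹ := by rw [h1]
      _ = f a * f b := by group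

/-- **`F₄`, `E₇`, `E₈`.** -/
theorem cen_split {F : Type} [Field F] [Fintype F] {p : ℕ} (hpp : p.Prime) [hFp : CharP F p] (hp2 : p ≠ 2)
    {S : Type v} [Group S] [Finite S] (hS : Nonempty (S ≃* D.group F)) (hc : cnt D l = true) {L0 FF : List ℕ}
    {g : ℕ → ℕ} (K : Chk D L0 g) (hL0 : ∀ s ∈ L0, s < D.nroots) (hL0' : L0 ≠ []) (htwo : ∀ d ∈ L0, two D d = true)
    (hFF : ∀ s ∈ FF, s < D.nroots) (hrho : ∀ i : Fin l, rhoL D l FF (sr i) = -sr i)
    (hdata : ∀ [Fact p.Prime] [CharP (AlgebraicClosure F) p] (_ : LocFin (AlgebraicClosure F)) (e : ℕ) (_ : 0 < e)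
      (_ : Fintype.card F = p ^ e) (_ : (2 : AlgebraicClosure F) ≠ 0) (i : AlgebraicClosure F) (_ : i * i = -1),
      H1 hp p e (algebraMap F (AlgebraicClosure F)) i L0) : CenTwo p S := by
  have := Fact.mk hpp
  obtain ⟨p', e, hp', hpF', hpk', he, hq, hk⟩ := exists_closure (F := F) rfl
  have hpe : p' = p := CharP.eq F hpF' hFp
  subst hpe
  set k := AlgebraicClosure F with hkdef
  have h2 : (2 : k) ≠ 0 := by
    intro h
    have h1 : p' ∣ 2 := (CharP.cast_eq_zero_iff k p' 2).1 (by exact_mod_cast h)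
    exact hp2 ((Nat.prime_dvd_prime_iff_eq hpp Nat.prime_two).1 h1)
  obtain ⟨i, hi⟩ := exists_i k
  have hH1 := hdata hk e he hq h2 i hi
  have hodd : Odd (p' ^ e) := (hpp.eq_two_or_odd'.resolve_left hp2).pow
  obtain ⟨ε, hε, h4⟩ := exists_eps hodd
  -- the list of reflections
  obtain ⟨L, hL, hLr⟩ : ∃ L : List ℕ, (∀ s ∈ L, s < D.nroots) ∧ ∀ x, rhoL D l L x = ε • x := by
    rcases hε with rfl | rfl
    · exact ⟨[], fun s hs => absurd hs List.not_mem_nil, fun x => (one_smul ℤ x).symm⟩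
    · refine ⟨FF, hFF, fun x => ?_⟩
      have h1 := addHom_ext (f := rhoM D l FF) (g := AddMonoidHom.mk' (fun x => (-1 : ℤ) • x) (fun x y => smul_add _ x y))
        (fun i => by
          rw [rhoM_apply, hrho]
          show -sr i = (-1 : ℤ) • sr i
          rw [neg_smul, one_smul]) x
      exact h1
  obtain ⟨z, hz, hiff⟩ := exists_twist_all hp hk he (isFrob_phi (D := D) (k := k) (p := p') (e := e))
    (fr_phi hp M.toCoxeterSystem) hL
  let f0 := algebraMap F k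
  obtain ⟨φ⟩ := hS
  let f : S →* ↥(D.group k) := (emb hp.inList f0).comp φ.toMonoidHom
  have hf : Function.Injective f := (emb_injective hp.inList f0).comp φ.injective
  refine cen_core hp h2 p' hk (hAlg_of_locFin hk p') hc K hL0 hL0' htwo hi f hf z fun s hs => ?_
  have h1 := hH1 ε hε (by rw [← Nat.cast_pow]; exact h4) z (fun t ht => by
    rw [hz]; exact (cX_wL hp hk p' L hL t ht).1) (fun t ht x => by
    rw [hz, (cX_wL hp hk p' L hL t ht).2, hLr]) s hs (hL0 s hs)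
  obtain ⟨y, hy⟩ := h1
  refine ⟨φ.symm y, ?_⟩
  rw [xd_lt hp (hL0 s hs), ← hy]
  show emb hp.inList f0 (φ (φ.symm y)) = _
  rw [MulEquiv.apply_symm_apply]

section fam

variable {F : Type} [Field F] [Fintype F] {p : ℕ} {S : Type v} [Group S] [Finite S]

theorem cen_f4 (hpp : p.Prime) (hp2 : p ≠ 2) [hFp : CharP F p] (hS : Nonempty (S ≃* chevF4.group F)) : CenTwo p S :=
  cen_split f4T' hpp hp2 hS cnt_F4 chkF4 ltF4 (by decide) twoF4 ltFF4 rhoF4 (fun hk e he hq h2 i hi =>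
      h1_odd f4T' hk _ he hq invC_F4 one_ne_zero (Or.inl rfl) (by norm_num) hi _)

theorem cen_e8 (hpp : p.Prime) (hp2 : p ≠ 2) [hFp : CharP F p] (hS : Nonempty (S ≃* chevE8.group F)) : CenTwo p S :=
  cen_split e8T' hpp hp2 hS cnt_E8 chkE8 ltE8 (by decide) twoE8 ltFE8 rhoE8 (fun hk e he hq h2 i hi =>
      h1_odd e8T' hk _ he hq invC_E8 one_ne_zero (Or.inl rfl) (by norm_num) hi _)

theorem cen_e7 (hpp : p.Prime) (hp2 : p ≠ 2) [hFp : CharP F p] (hS : Nonempty (S ≃* chevE7.group F)) : CenTwo p S :=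
  cen_split e7T' hpp hp2 hS cnt_E7 chkE7 ltE7 (by decide) twoE7 ltFE7 rhoE7 (fun hk e he hq h2 i hi =>
      fun ε hε h4 z hzT hzX s hs hlt => by
          obtain ⟨j, hj⟩ := unimod_E7 s hs
          refine H14.CommRange.comm_mem_range e7T' _ hk he hq invC_E7 two_ne_zero h2 hi hε h4 hzT hzX hlt
            (fun j' => if j' = j then vec chevE7 7 s j else 0) ?_
          rw [Finset.sum_eq_single j]
          · rw [if_pos rfl]
            rcases hj with h | h <;> rw [h] <;> norm_num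
          · intro b _ hb
            rw [if_neg hb, zero_mul]
          · intro h
            exact absurd (Finset.mem_univ j) h)

end fam

/-- **types `E₆`, `²E₆`** -/
theorem cen_six {k : Type u} [Field k] [IsAlgClosed k] (hk : LocFin k) {p e : ℕ} [hpp : Fact p.Prime] [CharP k p]
    {G : Type w} [Group G] {ι : G →* ↥(chevE6.group k)} {σ : MulAut ↥(chevE6.group k)}
    {g : (Fin 6 → ℤ) ≃+ (Fin 6 → ℤ)} (hg : SixG g)
    (hset : ∀ (q : ℕ) [Fact q.Prime], q ≠ 3 → Setup hp6 q p e ι σ g)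
    (hp2 : p ≠ 2) {S : Type v} [Group S] [Finite S] (hS : Nonempty (S ≃* G)) : CenTwo p S := by
  have := Fact.mk Nat.prime_two
  have set2 := hset 2 (by norm_num)
  have h2 : (2 : k) ≠ 0 := by
    intro h
    have h1 : p ∣ 2 := (CharP.cast_eq_zero_iff k p 2).1 (by exact_mod_cast h)
    exact hp2 ((Nat.prime_dvd_prime_iff_eq hpp.out Nat.prime_two).1 h1)
  obtain ⟨i, hi⟩ := exists_i k
  have hi0 := i_ne_zero hi
  have hodd : Odd (p ^ e) := (hpp.out.eq_two_or_odd'.resolve_left hp2).pow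
  obtain ⟨ε, hε, h4⟩ := exists_eps hodd
  have hL1 : ∀ s ∈ ME6, s < chevE6.nroots ∧ g (vec chevE6 6 s) = vec chevE6 6 s := fun s hs => ⟨ltME6 s hs, hg.fix s hs⟩
  obtain ⟨z, -, hiff, hz⟩ := exists_twist_Z hp6 hk set2.e_pos set2.frob set2.fr (LL_sub ε) hL1
  obtain ⟨φ⟩ := hS
  let f : S →* ↥(chevE6.group k) := ι.comp φ.toMonoidHom
  have hf : Function.Injective f := set2.inj.comp φ.injective
  have hfφ : ∀ y, f (φ.symm y) = ι y := fun y => by
    show ι (φ (φ.symm y)) = _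
    rw [MulEquiv.apply_symm_apply]
  refine cen_core hp6 h2 p hk (hAlg_of_locFin hk p) cnt_E6 chkE6 ltE6 (by decide) twoE6 hi f hf z fun s hs => ?_
  have hlt := ltE6 s hs
  have h1 := fixed_ph hp6 hk hiff (eps_sq hε) hlt p (fun x => ll_a hg hε hs x) (n := 4) (by exact_mod_cast h4)
    hi0 (i_four hi)
  obtain ⟨y, hy⟩ := set2.p_mem _ h1 ⟨2, by
    rw [show (2 : ℕ) ^ 2 = 4 by norm_num, conj_pow, ← map_pow, hS_pow hi0, i_four hi, hS_one, map_one]; group⟩
  refine ⟨φ.symm y, ?_⟩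
  rw [xd_lt hp6 hlt, hfφ, hy]

variable {F : Type} [Field F] [Fintype F] {p : ℕ} {S : Type v} [Group S] [Finite S]

theorem cen_e6 (_hpp : p.Prime) (hp2 : p ≠ 2) [hFp : CharP F p] (hS : Nonempty (S ≃* chevE6.group F)) :
    CenTwo p S := by
  obtain ⟨p', e, hp', hpF', hpk', he, hq, hk⟩ := exists_closure (F := F) rfl
  have hpe : p' = p := CharP.eq F hpF' hFp
  subst hpe
  exact cen_six hk (ι := emb hp6.inList (algebraMap F (AlgebraicClosure F))) sixG_refl (fun q _ hq3 =>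
    Cfsg.Agent.H795.Untw.setup_untw hp6 hk _ he hq invC_E6 (by norm_num) (Or.inr Nat.prime_three) (p := q)
      (fun h => hq3 ((Nat.prime_dvd_prime_iff_eq Fact.out Nat.prime_three).1 h))) hp2 hS

theorem cen_tw (_hpp : p.Prime) (hp2 : p ≠ 2) [hFp : CharP F p] {q : ℕ} (hq : IsPrimePow q)
    (hK : Fintype.card F = q ^ 2) (hS : Nonempty (S ≃* twistedE6 F q)) : CenTwo p S := by
  obtain ⟨r, n, hr, hrF, hrk, hn0, hn, hk⟩ := Cfsg.Agent.H795.Tw.exists_closure_q (K := F) two_ne_zero hq hK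
  have hpe : r = p := CharP.eq F hrF hFp
  subst hpe
  exact cen_six hk (ι := em6 q (algebraMap F (AlgebraicClosure F))) sixG_rho (fun q' _ hq3 =>
    Cfsg.Agent.H795.Tw.setup_six _ r hk hn0 hn hK hq3) hp2 hS

end Cfsg.Agent.H750.RM
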